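import Mathlib.AlgebraicGeometry.Morphisms.FlatDescent
import Mathlib.AlgebraicGeometry.Morphisms.SchemeTheoreticallyDominant
import Mathlib.AlgebraicGeometry.Morphisms.ClosedImmersion
import Mathlib.CategoryTheory.Subobject.Basic

/-!
Descent of closed subschemes along faithfully flat quasi-compact morphisms.
-/

universe u

open CategoryTheory AlgebraicGeometry Limits MorphismProperty

set_option backward.isDefEq.respectTransparency.types false

noncomputable section

namespace Groth.Agent.GrpQ6.ClosedDescent

theorem isIso_of_factor {Z Y P : Scheme.{u}} (j : Z ⟶ Y) [Mono j] (p : P ⟶ Y) [Flat p] [Surjective p]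
    [QuasiCompact p] (l : P ⟶ Z) (h : l ≫ j = p) : IsIso j := by
  have : IsIso (pullback.fst p j) := by
    refine ⟨pullback.lift (𝟙 _) l (by rw [Category.id_comp, h]), ?_, pullback.lift_fst _ _ _⟩
    rw [← cancel_mono (pullback.fst p j), Category.assoc, pullback.lift_fst, Category.id_comp,
      Category.comp_id]
  exact of_pullback_fst_of_descendsAlong (P := isomorphisms Scheme.{u})
    (Q := @Surjective ⊓ @Flat ⊓ @QuasiCompact) (f := p) ⟨⟨‹_›, ‹_›⟩, ‹_›⟩ this

theorem dominant_of_fqc {P Y : Scheme.{u}} (p : P ⟶ Y) [Flat p] [Surjective p] [QuasiCompact p] :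
    IsSchemeTheoreticallyDominant p := by
  have := isIso_of_factor p.imageι p p.toImage p.toImage_imageι
  exact ⟨(Scheme.isIso_subschemeι_iff_eq_bot p.ker).1 this⟩

theorem dominant_toImage {X Y : Scheme.{u}} (f : X ⟶ Y) [QuasiCompact f] :
    IsSchemeTheoreticallyDominant f.toImage := by
  refine ⟨Scheme.IdealSheafData.ext_of_iSup_eq_top
    (fun U : Y.affineOpens => ⟨f.imageι ⁻¹ᵁ U.1, U.2.preimage f.imageι⟩) ?_ fun U => ?_⟩
  · rw [← Scheme.Hom.preimage_iSup, iSup_affineOpens_eq_top]; rfl
  · rw [Scheme.Hom.ker_apply, Scheme.IdealSheafData.ideal_bot, Pi.bot_apply,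
      ← RingHom.injective_iff_ker_eq_bot]
    exact f.toImage_app_injective U

theorem mk_eq_of_ker_eq {A B X : Scheme.{u}} (i : A ⟶ X) (i' : B ⟶ X) [IsClosedImmersion i]
    [IsClosedImmersion i'] (h : i.ker = i'.ker) : Subobject.mk i = Subobject.mk i' :=
  le_antisymm (Subobject.mk_le_mk_of_comm _ (IsClosedImmersion.lift_fac i' i h.ge))
    (Subobject.mk_le_mk_of_comm _ (IsClosedImmersion.lift_fac i i' h.le))

variable {X X' : Scheme.{u}} (π : X ⟶ X') [Flat π] [Surjective π] [QuasiCompact π]

theorem le_of_pullback_le (A B : Subobject X') (hA : IsClosedImmersion A.arrow) (hB : IsClosedImmersion B.arrow)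
    (h : (Subobject.pullback π).obj A ≤ (Subobject.pullback π).obj B) : A ≤ B := by
  rw [Subobject.pullback_obj, Subobject.pullback_obj] at h
  let m : pullback A.arrow π ⟶ pullback B.arrow π := Subobject.ofMkLEMk _ _ h
  have hm : m ≫ pullback.snd B.arrow π = pullback.snd A.arrow π := Subobject.ofMkLEMk_comp h
  let j := pullback.fst A.arrow B.arrow
  let p := pullback.fst A.arrow π
  have hl : p ≫ A.arrow = (m ≫ pullback.fst B.arrow π) ≫ B.arrow := by
    rw [Category.assoc, pullback.condition, pullback.condition, reassoc_of% hm]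
  have : IsIso j := isIso_of_factor j p (pullback.lift p (m ≫ pullback.fst B.arrow π) hl) (pullback.lift_fst _ _ _)
  refine Subobject.le_of_comm (inv j ≫ pullback.snd A.arrow B.arrow) ?_
  rw [Category.assoc, ← pullback.condition, IsIso.inv_hom_id_assoc]

theorem exists_descent {Y : Scheme.{u}} (ι : Y ⟶ X) [IsClosedImmersion ι]
    (hst : Subobject.mk (pullback.snd ι (pullback.fst π π)) = Subobject.mk (pullback.snd ι (pullback.snd π π))) :
    ∃ (Z : Scheme.{u}) (i : Z ⟶ X') (_ : IsClosedImmersion i),
      Subobject.mk (pullback.snd i π) = Subobject.mk ι := by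
  let f := ι ≫ π
  refine ⟨f.image, f.imageι, inferInstance, mk_eq_of_ker_eq _ _ ?_⟩
  -- the base change of the image
  have := dominant_toImage f
  let W := pullback f.imageι π
  let P := pullback f π
  let q : P ⟶ W := pullback.map f π f.imageι π f.toImage (𝟙 _) (𝟙 _) (by simp) (by simp)
  have hq : IsPullback q (pullback.fst f π) (pullback.fst f.imageι π) f.toImage := by
    refine (IsPullback.of_right ?_ (pullback.lift_fst _ _ _).symm.symm (IsPullback.of_hasPullback f.imageι π).flip).flip.flip
    rw [show q ≫ pullback.snd f.imageι π = pullback.snd f π from (pullback.lift_snd _ _ _).trans (Category.comp_id _),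
      f.toImage_imageι]
    exact (IsPullback.of_hasPullback f π).flip
  have : IsSchemeTheoreticallyDominant q := IsSchemeTheoreticallyDominant.of_isPullback hq.flip
  have h1 : (pullback.snd f π).ker = (pullback.snd f.imageι π).ker := by
    rw [← show q ≫ pullback.snd f.imageι π = pullback.snd f π from (pullback.lift_snd _ _ _).trans (Category.comp_id _),
      Scheme.Hom.ker_comp, q.ker_eq_bot, Scheme.IdealSheafData.map_bot]
  rw [← h1]
  -- symmetry
  let a : P ⟶ pullback ι (pullback.fst π π) := pullback.lift (pullback.fst f π)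
    (pullback.lift (pullback.fst f π ≫ ι) (pullback.snd f π) (by rw [Category.assoc]; exact pullback.condition))
    (by rw [pullback.lift_fst])
  let a' : pullback ι (pullback.fst π π) ⟶ P := pullback.lift (pullback.fst ι (pullback.fst π π))
    (pullback.snd ι (pullback.fst π π) ≫ pullback.snd π π)
    (by simp only [f, Category.assoc, pullback.condition_assoc, ← pullback.condition (f := π) (g := π)])
  have : IsIso a := ⟨a', by
      apply pullback.hom_ext
      · simp [a, a', pullback.lift_fst, pullback.lift_fst_assoc]
      · simp [a, a', pullback.lift_snd, pullback.lift_snd_assoc], by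
      apply pullback.hom_ext
      · simp [a, a', pullback.lift_fst, pullback.lift_fst_assoc]
      · rw [Category.id_comp, Category.assoc, pullback.lift_snd]
        apply pullback.hom_ext
        · simp [a', pullback.lift_fst, pullback.lift_fst_assoc, pullback.condition]
        · simp [a', pullback.lift_snd, pullback.lift_snd_assoc]⟩
  let e := Subobject.isoOfMkEqMk _ _ hst
  have he : e.hom ≫ pullback.snd ι (pullback.snd π π) = pullback.snd ι (pullback.fst π π) :=
    Subobject.ofMkLEMk_comp hst.le
  have h2 : pullback.snd f π = ((a ≫ e.hom) ≫ pullback.fst ι (pullback.snd π π)) ≫ ι := by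
    rw [Category.assoc, pullback.condition, Category.assoc, reassoc_of% he]
    simp [a, pullback.lift_snd, pullback.lift_snd_assoc]
  have := dominant_of_fqc (pullback.fst ι (pullback.snd π π))
  rw [h2, Scheme.Hom.ker_comp, Scheme.Hom.ker_eq_bot, Scheme.IdealSheafData.map_bot]

theorem bijOn : Set.BijOn (Subobject.pullback π).obj
    {Y' : Subobject X' | IsClosedImmersion Y'.arrow}
    {Y : Subobject X | IsClosedImmersion Y.arrow ∧
      (Subobject.pullback (pullback.fst π π)).obj Y = (Subobject.pullback (pullback.snd π π)).obj Y} := by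
  refine ⟨fun A hA => ⟨?_, ?_⟩, fun A hA B hB h => ?_, fun Y ⟨hY, hst⟩ => ?_⟩
  · have : IsClosedImmersion A.arrow := hA
    rw [Subobject.pullback_obj, ← Subobject.underlyingIso_hom_comp_eq_mk]
    infer_instance
  · rw [← Subobject.pullback_comp, ← Subobject.pullback_comp, pullback.condition]
  · exact le_antisymm (le_of_pullback_le π A B hA hB h.le) (le_of_pullback_le π B A hB hA h.ge)
  · have : IsClosedImmersion Y.arrow := hY
    rw [Subobject.pullback_obj, Subobject.pullback_obj] at hst
    obtain ⟨Z, i, hi, he⟩ := exists_descent π Y.arrow hst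
    refine ⟨Subobject.mk i, ?_, ?_⟩
    · show IsClosedImmersion _
      rw [← Subobject.underlyingIso_hom_comp_eq_mk]
      infer_instance
    · rw [Subobject.pullback_obj_mk (IsPullback.of_hasPullback i π), he, Subobject.mk_arrow]

end Groth.Agent.GrpQ6.ClosedDescent

end
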